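import Cfsg.Agent.Lib.Helper12.TCG.M11x720.Rel0
import Cfsg.Agent.Lib.Helper12.TCG.M11x720.Tab
import Cfsg.Agent.Lib.Helper12.TCG.M11Pres

/-! the permutation representation for M11x720 (generated, helper12) -/

set_option autoImplicit false
set_option maxRecDepth 100000
set_option linter.unusedSimpArgs false
set_option Elab.async false

namespace Cfsg.Agent.Lib.Helper12.TCG.M11x720

open Cfsg.Agent.Lib.Helper12.TC Cfsg.Agent.Lib.Helper12.TCG Cfsg.Agent.Lib.Helper12.TCG.M11Pres

theorem htN : tN = cN := rfl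

theorem hperm0 : permOneG 18364758544493064480 TT 0 tN = true :=
  permOneG_of_OK (permOK_step hperm0_0 rfl
    (permOK_start 18364758544493064480 TT 0 tN))

theorem hperm1 : permOneG 18364758544493064480 TT 1 tN = true :=
  permOneG_of_OK (permOK_step hperm1_0 rfl
    (permOK_start 18364758544493064480 TT 1 tN))

theorem hperm2 : permOneG 18364758544493064480 TT 2 tN = true :=
  permOneG_of_OK (permOK_step hperm2_0 rfl
    (permOK_start 18364758544493064480 TT 2 tN))

theorem hperm : permG cIV TT 3 cN = true := by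
  refine permG_of_ones (fun x hx => ?_)
  interval_cases x
  · exact hperm0
  · exact hperm1
  · exact hperm2

/-- words as powers -/
def specs : List (List ℕ × ℕ) :=
  [([1], 4),
   ([0, 1], 11),
   ([0, 1, 1], 6),
   ([0, 1, 0, 1, 0, 2, 0, 1, 0, 1, 1, 0, 2, 0, 1, 0, 2, 0, 2], 1),
   ([0], 2),
   ([1, 2], 1),
   ([2, 1], 1),
   ([], 1)]

theorem hspecs : baseL = specs.map (fun s => wpow s.1 s.2) := by
  decide +kernel

theorem hfixall : Fn.FixAll TT tN specs :=
  Fn.fixAll_cons (Fn.fix_of_marksK hm0)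
    (Fn.fixAll_cons (Fn.fix_of_marksK hm1)
    (Fn.fixAll_cons (Fn.fix_of_marksK hm2)
    (Fn.fixAll_cons (Fn.fix_of_marksK hm3)
    (Fn.fixAll_cons (Fn.fix_of_marksK hm4)
    (Fn.fixAll_cons (Fn.fix_of_marksK hm5)
    (Fn.fixAll_cons (Fn.fix_of_marksK hm6)
    (Fn.fixAll_cons (Fn.fix_of_marksK hm7)
    (Fn.fixAll_nil TT tN))))))))

theorem hrels : Fn.relsK TT cN baseL = true := by
  rw [hspecs]
  exact Fn.relsK_of_fixAll hfixall

theorem hsub : Fn.subK TT 3 sw = true := by decide +kernel

theorem htrans : Fn.transK TT 3 cN sw = true := by decide +kernel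

end Cfsg.Agent.Lib.Helper12.TCG.M11x720
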